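import Cfsg.Agent.Lib.BNPair.Basic

/-!
# The Weyl group of a Tits system is a Coxeter group
-/

set_option autoImplicit false

namespace Cfsg.Agent.Lib.BNPair

variable {G : Type*} [Group G] (P : Cfsg.BNPair G)

/-- The Coxeter matrix of a Tits system. -/
noncomputable def coxMatrix : CoxeterMatrix P.S where
  M := fun i j => orderOf (refl P i * refl P j)
  isSymm := by
    refine Matrix.IsSymm.ext fun s t => ?_
    show orderOf (refl P t * refl P s) = orderOf (refl P s * refl P t)
    rw [← orderOf_inv (refl P s * refl P t), mul_inv_rev, refl_inv, refl_inv]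
  diagonal s := by simp [refl_sq]
  off_diagonal s t h := by
    simp only [ne_eq, orderOf_eq_one_iff]
    intro e
    refine h (refl_injective P ?_)
    calc refl P s = refl P s * refl P t * refl P t := (mul_refl_cancel P t _).symm
      _ = refl P t := by rw [e, one_mul]

/-- The map from the abstract Coxeter group to `W`. -/
noncomputable def coxHom : (coxMatrix P).Group →* W P :=
  (coxMatrix P).toCoxeterSystem.lift ⟨refl P, fun _ _ => pow_orderOf_eq_one _⟩

theorem coxHom_simple (s : P.S) : coxHom P ((coxMatrix P).simple s) = refl P s :=
  (coxMatrix P).toCoxeterSystem.lift_apply_simple _ s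

/-- The product of a word in the abstract Coxeter group. -/
noncomputable def cprod (L : List P.S) : (coxMatrix P).Group :=
  (L.map (coxMatrix P).simple).prod

/-- The word `a, b, a, b, …` of length `j`. -/
def altWord {ι : Type*} (a b : ι) : ℕ → List ι
  | 0 => []
  | j + 1 => a :: altWord b a j

theorem altWord_length {ι : Type*} (a b : ι) (j : ℕ) : (altWord a b j).length = j := by
  induction j generalizing a b with
  | zero => rfl
  | succ j ih => simp [altWord, ih]

theorem altWord_succ_eq_append {ι : Type*} (a b : ι) (j : ℕ) :
    ∃ c, altWord a b (j + 1) = altWord a b j ++ [c] := by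
  induction j generalizing a b with
  | zero => exact ⟨a, rfl⟩
  | succ j ih =>
    obtain ⟨c, hc⟩ := ih b a
    exact ⟨c, by rw [altWord, hc]; rfl⟩

theorem altWord_split {ι : Type*} : ∀ (i : ℕ) (a b : ι) (j : ℕ), i ≤ j →
    ∃ R, altWord a b j = altWord a b i ++ R
  | 0, _, _, _, _ => ⟨_, rfl⟩
  | i + 1, _, _, 0, h => absurd h (by omega)
  | i + 1, a, b, j + 1, h => by
    obtain ⟨R, hR⟩ := altWord_split i b a j (by omega)
    exact ⟨R, by simp [altWord, hR]⟩

theorem altWord_prod_eq {H : Type*} [Group H] {ι : Type*} (f : ι → H) (hf : ∀ i, f i * f i = 1)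
    (a b : ι) (j : ℕ) :
    ((altWord a b j).map f).prod = (f a * f b) ^ j * ((altWord b a j).map f).prod := by
  induction j generalizing a b with
  | zero => simp [altWord]
  | succ j ih =>
    have h1 := ih b a
    have h2 : f a * (f b * f a) ^ j = (f a * f b) ^ j * f a :=
      (SemiconjBy.pow_right (show SemiconjBy (f a) (f b * f a) (f a * f b) from
        (mul_assoc _ _ _).symm) j)
    simp only [altWord, List.map_cons, List.prod_cons]
    rw [h1, ← mul_assoc, h2, pow_succ]
    simp only [mul_assoc]
    rw [← mul_assoc (f b) (f b), hf, one_mul]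

theorem cprod_braid {a b : P.S} {i : ℕ}
    (h : wprod P (altWord a b i) = wprod P (altWord b a i)) :
    cprod P (altWord a b i) = cprod P (altWord b a i) := by
  have h1 := altWord_prod_eq (refl P) (refl_sq P) a b i
  simp only [wprod] at h
  rw [h, right_eq_mul] at h1
  have h2 : ((coxMatrix P).simple a * (coxMatrix P).simple b) ^ coxMatrix P a b = 1 :=
    (coxMatrix P).toCoxeterSystem.simple_mul_simple_pow a b
  obtain ⟨k, hk⟩ : coxMatrix P a b ∣ i := orderOf_dvd_of_pow_eq_one h1
  rw [cprod, cprod, altWord_prod_eq (coxMatrix P).simple
    (fun s => (coxMatrix P).toCoxeterSystem.simple_mul_simple_self s) a b i, hk, pow_mul, h2, one_pow, one_mul]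

theorem cprod_append (L L' : List P.S) : cprod P (L ++ L') = cprod P L * cprod P L' := by
  simp [cprod]

theorem cprod_cons (s : P.S) (L : List P.S) :
    cprod P (s :: L) = (coxMatrix P).simple s * cprod P L := rfl

/-- A word is reduced if its length equals the length of its product. -/
def IsRed (L : List P.S) : Prop := L.length = len P (wprod P L)

theorem isRed_tail {s : P.S} {L : List P.S} (h : IsRed P (s :: L)) : IsRed P L := by
  have h1 := len_refl_mul_le P s (wprod P L)
  have h2 := len_le P L
  simp only [IsRed, wprod_cons, List.length_cons] at h ⊢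
  omega

theorem cprod_eq_of_wprod_eq : ∀ (k : ℕ) (L L' : List P.S), L.length = k →
    IsRed P L → IsRed P L' → wprod P L = wprod P L' → cprod P L = cprod P L' := by
  intro k
  induction k with
  | zero =>
    intro L L' hk hL hL' he
    rw [IsRed, ← he, ← hL, hk] at hL'
    rw [List.length_eq_zero_iff] at hk hL'
    rw [hk, hL']
  | succ k ih =>
    have same : ∀ (c : P.S) (X Y : List P.S), X.length = k → IsRed P (c :: X) → IsRed P (c :: Y) →
        wprod P (c :: X) = wprod P (c :: Y) → cprod P (c :: X) = cprod P (c :: Y) := by
      intro c X Y hk hX hY he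
      rw [cprod_cons, cprod_cons, ih X Y hk (isRed_tail P hX) (isRed_tail P hY)]
      exact mul_left_cancel he
    have braid : ∀ (fuel : ℕ) (a b : P.S) (j : ℕ) (X Y : List P.S), a ≠ b →
        k + 1 ≤ fuel + j → 1 ≤ j → (altWord a b j ++ X).length = k + 1 →
        IsRed P (altWord a b j ++ X) → IsRed P (b :: Y) →
        wprod P (altWord a b j ++ X) = wprod P (b :: Y) →
        cprod P (altWord a b j ++ X) = cprod P (b :: Y) := by
      intro fuel
      induction fuel using Nat.strong_induction_on with
      | _ fuel ihf =>
        intro a b j X Y hab hf hj hk hX hY he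
        have hlenY : Y.length = k := by
          have := hY
          rw [IsRed, ← he, ← hX, hk] at this
          simpa using this
        have hdesc : len P (refl P b * wprod P (altWord a b j ++ X)) <
            len P (wprod P (altWord a b j ++ X)) := by
          rw [← hX, hk, he, wprod_cons, refl_mul_cancel]
          exact (len_le P Y).trans_lt (by omega)
        by_cases hd : ∃ i ≤ j, len P (refl P b * wprod P (altWord a b i)) <
            len P (wprod P (altWord a b i))
        · obtain ⟨hile, hi⟩ := Nat.find_spec hd
          obtain ⟨i, hi_eq⟩ : ∃ i, Nat.find hd = i + 1 := by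
            rcases h : Nat.find hd with _ | i
            · rw [h] at hi; simp [altWord, len_one] at hi
            · exact ⟨i, rfl⟩
          rw [hi_eq] at hile hi
          have hni : ¬ len P (refl P b * wprod P (altWord a b i)) < len P (wprod P (altWord a b i)) :=
            fun h => Nat.find_min hd (by omega : i < Nat.find hd) ⟨by omega, h⟩
          obtain ⟨c, hc⟩ := altWord_succ_eq_append a b i
          rw [hc, wprod_append, wprod_singleton] at hi
          have hx := exchange_step P hni hi
          have hbraid : wprod P (altWord a b (i + 1)) = wprod P (altWord b a (i + 1)) := by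
            rw [hc, wprod_append, wprod_singleton]
            show _ = wprod P (b :: altWord a b i)
            rw [wprod_cons, hx]
          obtain ⟨R, hR⟩ := altWord_split (i + 1) a b j hile
          rw [hR, List.append_assoc, cprod_append, cprod_braid P hbraid, ← cprod_append]
          have hw : wprod P (altWord b a (i + 1) ++ (R ++ X)) = wprod P (altWord a b j ++ X) := by
            rw [hR, List.append_assoc, wprod_append, wprod_append _ (altWord a b (i + 1)), hbraid]
          refine same b (altWord a b i ++ (R ++ X)) Y ?_ ?_ hY (hw.trans he)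
          · rw [hR] at hk
            simp [altWord_length] at hk ⊢
            omega
          · show IsRed P (altWord b a (i + 1) ++ (R ++ X))
            rw [IsRed, hw, ← hX, hR]
            simp [altWord_length]
        · push Not at hd
          obtain ⟨X', _, hlX, hX'⟩ := exchange_after P (not_lt.2 (hd j le_rfl)) X
            (by rwa [← wprod_append])
          have hw : wprod P (altWord b a (j + 1) ++ X') = wprod P (altWord a b j ++ X) := by
            show wprod P (b :: (altWord a b j ++ X')) = _
            rw [wprod_cons, wprod_append, ← hX', wprod_append, refl_mul_cancel]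
          have hl : (altWord b a (j + 1) ++ X').length = k + 1 := by
            simp [altWord_length] at hk ⊢; omega
          have hr : IsRed P (altWord b a (j + 1) ++ X') := by
            rw [IsRed, hw, ← hX, hl, hk]
          have hjk : j ≤ k := by simp [altWord_length] at hl; omega
          obtain ⟨j', rfl⟩ : ∃ j', j = j' + 1 := ⟨j - 1, by omega⟩
          have e1 : cprod P (altWord b a (j' + 2) ++ X') = cprod P (altWord a b (j' + 1) ++ X) :=
            ihf (fuel - 1) (by omega) b a (j' + 2) X' (altWord b a j' ++ X) hab.symm (by omega)
              (by omega) hl hr hX hw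
          rw [← e1]
          exact same b (altWord a b (j' + 1) ++ X') Y (by simpa [altWord] using hl) hr hY (hw.trans he)
    intro L L' hk hL hL' he
    have hk' : L'.length = k + 1 := by rw [hL', ← he, ← hL, hk]
    obtain ⟨a, X, rfl⟩ := List.exists_cons_of_length_eq_add_one hk
    obtain ⟨b, Y, rfl⟩ := List.exists_cons_of_length_eq_add_one hk'
    by_cases hab : a = b
    · subst hab
      exact same a X Y (by simpa using hk) hL hL' he
    · exact braid k a b 1 X Y hab le_rfl le_rfl hk hL hL' he

theorem coxHom_cprod (L : List P.S) : coxHom P (cprod P L) = wprod P L := by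
  induction L with
  | nil => exact map_one _
  | cons s L ih => rw [cprod_cons, map_mul, coxHom_simple, ih, wprod_cons]

theorem exists_red_cprod_eq (L : List P.S) :
    ∃ R, IsRed P R ∧ wprod P R = wprod P L ∧ cprod P R = cprod P L := by
  induction L with
  | nil => exact ⟨[], (len_one P).symm, rfl, rfl⟩
  | cons s L ih =>
    obtain ⟨R, hR, hw, hc⟩ := ih
    rcases len_refl_mul P s (wprod P L) with h | h
    · refine ⟨s :: R, ?_, by simp [hw], by simp [cprod_cons, hc]⟩
      have hh := hR
      simp only [IsRed, wprod_cons, hw, List.length_cons] at hh ⊢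
      omega
    · obtain ⟨Q, hQl, hQ⟩ := exists_reduced P (refl P s * wprod P L)
      have hQ' : IsRed P Q := by rw [IsRed, hQ, hQl]
      have hsQ : wprod P (s :: Q) = wprod P R := by rw [wprod_cons, hQ, refl_mul_cancel, hw]
      have hrsQ : IsRed P (s :: Q) := by
        rw [IsRed, hsQ, hw, ← h, List.length_cons, hQl]
      refine ⟨Q, hQ', hQ, ?_⟩
      rw [cprod_cons, ← hc, ← cprod_eq_of_wprod_eq P _ (s :: Q) R rfl hrsQ hR hsQ, cprod_cons]
      exact ((coxMatrix P).toCoxeterSystem.simple_mul_simple_cancel_left s).symm

theorem coxHom_bijective : Function.Bijective (coxHom P) := by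
  refine ⟨(injective_iff_map_eq_one _).2 fun x hx => ?_, fun w => ?_⟩
  · obtain ⟨L, rfl⟩ := (coxMatrix P).toCoxeterSystem.wordProd_surjective x
    have hL : wprod P L = 1 := by rw [← coxHom_cprod]; exact hx
    obtain ⟨R, hR, hw, hc⟩ := exists_red_cprod_eq P L
    rw [IsRed, hw, hL, len_one, List.length_eq_zero_iff] at hR
    rw [hR] at hc
    exact hc.symm
  · obtain ⟨L, rfl⟩ := exists_word P w
    exact ⟨cprod P L, coxHom_cprod P L⟩

/-- The Weyl group as a Coxeter system. -/
noncomputable def coxSystem : CoxeterSystem (coxMatrix P) (W P) :=
  ⟨(MulEquiv.ofBijective (coxHom P) (coxHom_bijective P)).symm⟩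

theorem coxSystem_simple (s : P.S) : (coxSystem P).simple s = refl P s := coxHom_simple P s

end Cfsg.Agent.Lib.BNPair
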